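/- Evaluation into the double dual complex, and exactness of the duality functor. -/
import Groth.Agent.RHomMod.Derived
import Mathlib.Algebra.Category.ModuleCat.Injective

set_option autoImplicit false
set_option linter.style.haveILetI false
set_option backward.isDefEq.respectTransparency false
set_option backward.isDefEq.respectTransparency.types false
universe u

namespace Groth.Agent.RingBidual

open CategoryTheory Limits CochainComplex HomComplex

attribute [local instance] HasDerivedCategory.standard

noncomputable section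

variable {A : Type u} [CommRing A] (J : DRing.Cx A)

theorem preMap_id (K L : DRing.Cx A) : RHomMod.preMap (𝟙 K) L = 𝟙 (DRing.homCx K L) :=
  HomologicalComplex.hom_ext _ _ fun i => ModuleCat.hom_ext (LinearMap.ext fun (z : Cochain K L i) => by
    change (Cochain.ofHom (𝟙 K)).comp z (zero_add i) = z
    simp)

/-- the double dual -/
@[simps]
def DD : DRing.Cx A ⥤ DRing.Cx A where
  obj K := DRing.homCx (DRing.homCx K J) J
  map f := RHomMod.preMap (RHomMod.preMap f J) J
  map_id K := by rw [preMap_id, preMap_id]
  map_comp f g := by rw [RHomMod.preMap_comp, RHomMod.preMap_comp]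

/-- the component of the evaluation at an element -/
def evV (K : DRing.Cx A) {p n q : ℤ} (h : n + p = q) (x : K.X p) : (DRing.homCx K J).X n ⟶ J.X q :=
  ModuleCat.ofHom
    { toFun := fun z => (((p * n).negOnePow : ℤˣ) : ℤ) •
        (((show Cochain K J n from z).v p q (by lia)).hom x)
      map_add' := fun z z' => by erw [Cochain.add_v]; rw [ModuleCat.hom_add, LinearMap.add_apply, smul_add]
      map_smul' := fun c z => by
        erw [Cochain.smul_v]; rw [ModuleCat.hom_smul, LinearMap.smul_apply, RingHom.id_apply, smul_comm] }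

theorem evV_apply (K : DRing.Cx A) {p n q : ℤ} (h : n + p = q) (x : K.X p) (z : Cochain K J n) :
    (evV J K h x).hom z = (((p * n).negOnePow : ℤˣ) : ℤ) • ((z.v p q (by lia)).hom x) := rfl

/-- evaluation at an element as a cochain -/
def evC (K : DRing.Cx A) (p : ℤ) : K.X p →ₗ[A] Cochain (DRing.homCx K J) J p where
  toFun x := Cochain.mk fun _ _ h => evV J K h x
  map_add' x y := Cochain.ext _ _ fun n q h => ModuleCat.hom_ext (LinearMap.ext fun (z : Cochain K J n) => by
    rw [Cochain.mk_v, Cochain.add_v, Cochain.mk_v, Cochain.mk_v, ModuleCat.hom_add, LinearMap.add_apply,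
      evV_apply, evV_apply, evV_apply, map_add, smul_add])
  map_smul' c x := Cochain.ext _ _ fun n q h => ModuleCat.hom_ext (LinearMap.ext fun (z : Cochain K J n) => by
    rw [Cochain.mk_v, RingHom.id_apply, Cochain.smul_v, Cochain.mk_v, ModuleCat.hom_smul, LinearMap.smul_apply,
      evV_apply, evV_apply, map_smul, smul_comm])

theorem evC_v (K : DRing.Cx A) (p : ℤ) (x : K.X p) (n q : ℤ) (h : n + p = q) :
    (evC J K p x).v n q h = evV J K h x := by
  change (Cochain.mk fun _ _ h => evV J K h x : Cochain (DRing.homCx K J) J p).v n q h = _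
  rw [Cochain.mk_v]

/-- **evaluation** -/
def ev (K : DRing.Cx A) : K ⟶ (DD J).obj K where
  f p := ModuleCat.ofHom (Y := ((DD J).obj K).X p) (evC J K p)
  comm' p p' hp := by
    obtain rfl : p + 1 = p' := hp
    refine ModuleCat.hom_ext (LinearMap.ext fun x => ?_)
    change δ p (p + 1) (evC J K p x) = evC J K (p + 1) (K.d p (p + 1) x)
    refine Cochain.ext _ _ fun n q h => ModuleCat.hom_ext (LinearMap.ext fun (z : Cochain K J n) => ?_)
    rw [δ_v p (p + 1) rfl _ n q h (n + p) (n + 1) (by lia) rfl, ModuleCat.hom_add, LinearMap.add_apply,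
      Units.smul_def, ModuleCat.hom_zsmul, LinearMap.smul_apply, evC_v, evC_v, evC_v, ModuleCat.hom_comp,
      ModuleCat.hom_comp, LinearMap.comp_apply, LinearMap.comp_apply, evV_apply, evV_apply]
    change (J.d (n + p) q).hom _ + _ • (evV J K (show n + 1 + p = q by lia) x).hom (δ n (n + 1) z) = _
    rw [evV_apply, evV_apply, δ_v n (n + 1) rfl z p q (by lia) (n + p) (p + 1) (by lia) rfl, ModuleCat.hom_add,
      LinearMap.add_apply, Units.smul_def, ModuleCat.hom_zsmul, LinearMap.smul_apply, ModuleCat.hom_comp,
      ModuleCat.hom_comp, LinearMap.comp_apply, LinearMap.comp_apply, map_zsmul, smul_add, smul_add, smul_smul,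
      smul_smul, smul_smul]
    have h1 : ((p + 1).negOnePow : ℤˣ) * (p * (n + 1)).negOnePow = -((p * n).negOnePow) := by
      rw [← Int.negOnePow_add, ← Int.negOnePow_succ, Int.negOnePow_eq_iff]
      exact ⟨p, by ring⟩
    have h2 : ((p + 1).negOnePow : ℤˣ) * (p * (n + 1)).negOnePow * (n + 1).negOnePow =
        ((p + 1) * n).negOnePow := by
      rw [← Int.negOnePow_add, ← Int.negOnePow_add, Int.negOnePow_eq_iff]
      exact ⟨p + 1, by ring⟩
    simp only [← Units.val_mul]
    rw [h2, h1, Units.val_neg, neg_smul]
    abel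

theorem ev_f_apply (K : DRing.Cx A) (p : ℤ) (x : K.X p) : ((ev J K).f p).hom x = evC J K p x := rfl

theorem ev_naturality {K K' : DRing.Cx A} (f : K ⟶ K') : f ≫ ev J K' = ev J K ≫ (DD J).map f := by
  refine HomologicalComplex.hom_ext _ _ fun p => ModuleCat.hom_ext (LinearMap.ext fun x => ?_)
  change evC J K' p ((f.f p).hom x) = (Cochain.ofHom (RHomMod.preMap f J)).comp (evC J K p x) (zero_add p)
  refine Cochain.ext _ _ fun n q h => ModuleCat.hom_ext (LinearMap.ext fun (z : Cochain K' J n) => ?_)
  rw [Cochain.zero_cochain_comp_v, Cochain.ofHom_v, evC_v, evC_v, ModuleCat.hom_comp, LinearMap.comp_apply]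
  change _ = (evV J K h x).hom ((Cochain.ofHom f).comp z (zero_add n))
  rw [evV_apply, evV_apply, Cochain.zero_cochain_comp_v, Cochain.ofHom_v, ModuleCat.hom_comp, LinearMap.comp_apply]

/-- evaluation as a natural transformation -/
def evNat : 𝟭 (DRing.Cx A) ⟶ DD J where
  app K := ev J K
  naturality _ _ f := ev_naturality J f

variable (hJ : ∀ n, Injective (J.X n))
include hJ

/-- the short complex of duals -/
theorem shortExact_homCx {S : ShortComplex (DRing.Cx A)} (hS : S.ShortExact) :
    ∃ w : RHomMod.preMap S.g J ≫ RHomMod.preMap S.f J = 0,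
      (ShortComplex.mk (RHomMod.preMap S.g J) (RHomMod.preMap S.f J) w).ShortExact := by
  have hn : ∀ p, (S.map (HomologicalComplex.eval (ModuleCat.{u} A) (ComplexShape.up ℤ) p)).ShortExact := fun p =>
    hS.map_of_exact _
  have w : RHomMod.preMap S.g J ≫ RHomMod.preMap S.f J = 0 := by
    rw [← RHomMod.preMap_comp, S.zero]
    refine HomologicalComplex.hom_ext _ _ fun i => ModuleCat.hom_ext (LinearMap.ext fun (z : Cochain S.X₃ J i) => ?_)
    change (Cochain.ofHom (0 : S.X₁ ⟶ S.X₃)).comp z (zero_add i) = (0 : Cochain S.X₁ J i)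
    rw [Cochain.ofHom_zero, Cochain.zero_comp]
  refine ⟨w, HomologicalComplex.shortExact_of_degreewise_shortExact _ fun i => ?_⟩
  exact
    { exact := (ShortComplex.moduleCat_exact_iff _).2 fun (z : Cochain S.X₂ J i) hz => by
        have hz' : ∀ p q (h : p + i = q), S.f.f p ≫ z.v p q h = 0 := fun p q h => by
          have := congrArg (fun c : Cochain S.X₁ J i => c.v p q h)
            (show (Cochain.ofHom S.f).comp z (zero_add i) = (0 : Cochain S.X₁ J i) from hz)
          simpa using this
        haveI : ∀ p, Epi (S.g.f p) := fun p => (hn p).epi_g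
        haveI : ∀ p, Epi (S.map (HomologicalComplex.eval (ModuleCat.{u} A) (ComplexShape.up ℤ) p)).g := fun p => (hn p).epi_g
        exact ⟨(Cochain.mk fun p q h => (hn p).exact.desc (z.v p q h) (hz' p q h) : Cochain S.X₃ J i),
          Cochain.ext _ _ fun p q h => by
            change ((Cochain.ofHom S.g).comp _ (zero_add i)).v p q h = _
            rw [Cochain.zero_cochain_comp_v, Cochain.ofHom_v, Cochain.mk_v]
            exact (hn p).exact.g_desc _ _⟩
      mono_f := (ModuleCat.mono_iff_injective _).2 fun (z z' : Cochain S.X₃ J i) hzz =>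
        Cochain.ext _ _ fun p q h => by
          haveI : Epi (S.g.f p) := (hn p).epi_g
          refine (cancel_epi (S.g.f p)).1 ?_
          have := congrArg (fun c : Cochain S.X₂ J i => c.v p q h)
            (show (Cochain.ofHom S.g).comp z (zero_add i) = (Cochain.ofHom S.g).comp z' (zero_add i) from hzz)
          simpa using this
      epi_g := (ModuleCat.epi_iff_surjective _).2 fun (z : Cochain S.X₁ J i) => by
        haveI : ∀ p, Mono (S.f.f p) := fun p => (hn p).mono_f
        haveI := hJ
        refine ⟨(Cochain.mk fun p q h => Injective.factorThru (z.v p q h) (S.f.f p) : Cochain S.X₂ J i), ?_⟩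
        refine Cochain.ext _ _ fun p q h => ?_
        change ((Cochain.ofHom S.f).comp _ (zero_add i)).v p q h = _
        rw [Cochain.zero_cochain_comp_v, Cochain.ofHom_v, Cochain.mk_v]
        exact Injective.comp_factorThru _ _ }

/-- the double dual of a short exact sequence -/
theorem shortExact_DD {S : ShortComplex (DRing.Cx A)} (hS : S.ShortExact) :
    ∃ w : (DD J).map S.f ≫ (DD J).map S.g = 0,
      (ShortComplex.mk ((DD J).map S.f) ((DD J).map S.g) w).ShortExact := by
  obtain ⟨w, hw⟩ := shortExact_homCx J hJ hS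
  obtain ⟨w', hw'⟩ := shortExact_homCx J hJ hw
  exact ⟨w', hw'⟩

end

end Groth.Agent.RingBidual
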