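/- Biduality of the free module of rank one. -/
import Groth.Agent.RingBidual.Ev
import Groth.Agent.DualCx.Rep

set_option autoImplicit false
set_option linter.style.haveILetI false
set_option backward.isDefEq.respectTransparency false
set_option backward.isDefEq.respectTransparency.types false
universe u

namespace Groth.Agent.RingBidual

open CategoryTheory Limits CochainComplex HomComplex HomologicalComplex

attribute [local instance] HasDerivedCategory.standard

noncomputable section

variable {A : Type u} [CommRing A] (J : DRing.Cx A)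

/-- `A` in degree zero -/
abbrev one (A : Type u) [CommRing A] : DRing.Cx A :=
  (CochainComplex.singleFunctor (ModuleCat.{u} A) 0).obj (ModuleCat.of A A)

/-- the unit of `A[0]` -/
def unit0 (A : Type u) [CommRing A] : (one A).X 0 :=
  (singleObjXSelf (ComplexShape.up ℤ) 0 (ModuleCat.of A A)).inv.hom (1 : A)

theorem unit0_spec (A : Type u) [CommRing A] :
    (singleObjXSelf (ComplexShape.up ℤ) 0 (ModuleCat.of A A)).hom.hom (unit0 A) = (1 : A) :=
  Iso.inv_hom_id_apply (singleObjXSelf (ComplexShape.up ℤ) 0 (ModuleCat.of A A)) (1 : A)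

theorem one_d (i j : ℤ) : (one A).d i j = 0 := rfl

/-- extensionality out of degree zero -/
theorem singleObj_ext {M : ModuleCat.{u} A} (f g : (one A).X 0 ⟶ M) (h : f.hom (unit0 A) = g.hom (unit0 A)) :
    f = g := by
  rw [← cancel_epi (singleObjXSelf (ComplexShape.up ℤ) 0 (ModuleCat.of A A)).inv]
  exact ModuleCat.hom_ext (LinearMap.ext_ring h)

theorem cochain_ext {n : ℤ} (z z' : Cochain (one A) J n) (h : z.v 0 n (zero_add n) = z'.v 0 n (zero_add n)) :
    z = z' := by
  refine Cochain.ext _ _ fun p q hpq => ?_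
  by_cases hp : p = 0
  · subst hp
    obtain rfl : q = n := by omega
    exact h
  · exact (isZero_single_obj_X (ComplexShape.up ℤ) 0 (ModuleCat.of A A) p hp).eq_of_src _ _

/-- `J ≅ Hom(A[0], J)` in each degree -/
def fromUnit (n : ℤ) : J.X n →ₗ[A] Cochain (one A) J n where
  toFun y := Cochain.fromSingleMk (ModuleCat.ofHom (LinearMap.toSpanSingleton A (J.X n) y) : ModuleCat.of A A ⟶ J.X n)
    (zero_add n)
  map_add' y y' := cochain_ext J _ _ (by
    rw [Cochain.add_v, Cochain.fromSingleMk_v, Cochain.fromSingleMk_v, Cochain.fromSingleMk_v, ← Preadditive.comp_add]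
    congr 1
    exact ModuleCat.hom_ext (LinearMap.ext fun a => smul_add a y y'))
  map_smul' c y := cochain_ext J _ _ (by
    rw [RingHom.id_apply, Cochain.smul_v, Cochain.fromSingleMk_v, Cochain.fromSingleMk_v, ← Linear.comp_smul]
    congr 1
    exact ModuleCat.hom_ext (LinearMap.ext fun a => smul_comm a c y))

theorem fromUnit_v_unit (n : ℤ) (y : J.X n) :
    ((fromUnit J n y).v 0 n (zero_add n)).hom (unit0 A) = y := by
  change ((Cochain.fromSingleMk (ModuleCat.ofHom (LinearMap.toSpanSingleton A (J.X n) y) : ModuleCat.of A A ⟶ J.X n)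
    (zero_add n) : Cochain (one A) J n).v 0 n (zero_add n)).hom _ = y
  rw [Cochain.fromSingleMk_v, ModuleCat.hom_comp, LinearMap.comp_apply]
  exact (congrArg _ (unit0_spec A)).trans (one_smul A y)

theorem fromUnit_bijective (n : ℤ) : Function.Bijective (fromUnit J n) := by
  refine ⟨fun y y' h => ?_, fun z => ⟨(z.v 0 n (zero_add n)).hom (unit0 A), ?_⟩⟩
  · rw [← fromUnit_v_unit J n y, ← fromUnit_v_unit J n y', h]
  · exact cochain_ext J _ _ (singleObj_ext _ _ (fromUnit_v_unit J _ _))

/-- `J → Hom(A[0], J)` -/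
def uMap : J ⟶ DRing.homCx (one A) J where
  f n := ModuleCat.ofHom (Y := (DRing.homCx (one A) J).X n) (fromUnit J n)
  comm' n m hnm := by
    obtain rfl : n + 1 = m := hnm
    refine ModuleCat.hom_ext (LinearMap.ext fun y => cochain_ext J _ _ ?_)
    refine singleObj_ext _ _ ?_
    change ((δ n (n + 1) (fromUnit J n y)).v 0 (n + 1) (zero_add _)).hom (unit0 A) =
      ((fromUnit J (n + 1) ((J.d n (n + 1)).hom y)).v 0 (n + 1) (zero_add _)).hom (unit0 A)
    rw [fromUnit_v_unit, δ_v n (n + 1) rfl _ 0 (n + 1) (zero_add _) n 1 (by omega) (by omega),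
      one_d, zero_comp, smul_zero, add_zero, ModuleCat.hom_comp, LinearMap.comp_apply, fromUnit_v_unit]

instance : IsIso (uMap J) := by
  haveI : ∀ n, IsIso ((uMap J).f n) := fun n =>
    (ConcreteCategory.isIso_iff_bijective _).2 (fromUnit_bijective J n)
  exact HomologicalComplex.Hom.isIso_of_components _

/-- the scalars as endomorphism cochains -/
def scal : ModuleCat.of A A ⟶ (DRing.homCx J J).X 0 :=
  ModuleCat.ofHom (Y := (DRing.homCx J J).X 0) (LinearMap.toSpanSingleton A (Cochain J J 0) (Cochain.ofHom (𝟙 J)))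

/-- scalars -/
def cMap : one A ⟶ DRing.homCx J J :=
  mkHomFromSingle (scal J) fun j _ => ModuleCat.hom_ext (LinearMap.ext_ring (by
    change δ 0 j ((1 : A) • Cochain.ofHom (𝟙 J)) = 0
    rw [one_smul, δ_ofHom]))

theorem ev_one_comp : ev J (one A) ≫ RHomMod.preMap (uMap J) J = cMap J := by
  refine HomologicalComplex.from_single_hom_ext (singleObj_ext _ _ ?_)
  change (Cochain.ofHom (uMap J)).comp (evC J (one A) 0 (unit0 A)) (zero_add 0) =
    ((cMap J).f 0).hom (unit0 A)
  rw [show (cMap J).f 0 = _ from mkHomFromSingle_f _ _, ModuleCat.hom_comp, LinearMap.comp_apply]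
  refine Eq.trans ?_ ((congrArg (scal J).hom (unit0_spec A)).trans (one_smul A (Cochain.ofHom (𝟙 J)))).symm
  refine Cochain.ext₀ _ _ fun p => ModuleCat.hom_ext (LinearMap.ext fun y => ?_)
  rw [Cochain.zero_cochain_comp_v, Cochain.ofHom_v, Cochain.ofHom_v, evC_v, ModuleCat.hom_comp, LinearMap.comp_apply,
    HomologicalComplex.id_f]
  change (evV J (one A) (add_zero p) (unit0 A)).hom (fromUnit J p y) = y
  rw [evV_apply, fromUnit_v_unit, zero_mul, Int.negOnePow_zero, Units.val_one, one_smul]

variable {ω : Dual.D A}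

theorem ofHom_smul' (a : A) (f : J ⟶ J) : Cochain.ofHom (a • f) = a • Cochain.ofHom f :=
  Cochain.ext₀ _ _ fun p => by simp

/-- `Hom(J, J)` computes endomorphisms -/
theorem exists_scalar [J.IsKInjective] (e : DerivedCategory.Q.obj J ≅ ω) (hω : Dual.IsDualizing A ω)
    (z : Cochain J J 0) (hz : δ 0 1 z = 0) : ∃ (a : A) (w : Cochain J J (-1)), z = a • Cochain.ofHom (𝟙 J) + δ (-1) 0 w := by
  let φ : J ⟶ J := Cocycle.homOf (Cocycle.mk z 1 rfl hz)
  obtain ⟨a, ha⟩ := hω.toEnd_bijective.2 (e.inv ≫ DerivedCategory.Q.map φ ≫ e.hom)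
  have h : DerivedCategory.Q.map φ = DerivedCategory.Q.map (a • 𝟙 J) := by
    rw [Functor.map_smul, CategoryTheory.Functor.map_id, ← cancel_epi e.inv, ← cancel_mono e.hom, Category.assoc, ← ha]
    simp [Linear.smul_comp, Linear.comp_smul]
  obtain ⟨H⟩ := KInj.nonempty_homotopy_of_Q_map_eq h
  obtain ⟨w, hw⟩ := Cochain.equivHomotopy _ _ (Homotopy.equivSubZero.symm H)
  refine ⟨a, w, ?_⟩
  rw [show Cochain.ofHom φ = z from Cocycle.cochain_ofHom_homOf_eq_coe _, ofHom_smul'] at hw
  rw [hw, add_comm]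

theorem scalar_eq_zero [J.IsKInjective] (e : DerivedCategory.Q.obj J ≅ ω) (hω : Dual.IsDualizing A ω)
    (a : A) (w : Cochain J J (-1)) (h : a • Cochain.ofHom (𝟙 J) = δ (-1) 0 w) : a = 0 := by
  have H : Homotopy (a • 𝟙 J) (0 : J ⟶ J) := (Cochain.equivHomotopy _ _).symm ⟨w, by
    rw [Cochain.ofHom_zero, add_zero, ofHom_smul', h]⟩
  have h' := DerivedCategory.Q_map_eq_of_homotopy _ H
  rw [Functor.map_smul, Functor.map_zero, CategoryTheory.Functor.map_id] at h'
  refine hω.toEnd_bijective.1 ?_
  change a • 𝟙 ω = (0 : A) • 𝟙 ω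
  rw [zero_smul, ← cancel_epi e.hom, ← cancel_mono e.inv]
  simp [Linear.smul_comp, Linear.comp_smul, h']

theorem exists_cobound [J.IsKInjective] (e : DerivedCategory.Q.obj J ≅ ω) (hω : Dual.IsDualizing A ω)
    (n : ℤ) (hn : n ≠ 0) (z : Cochain J J n) (hz : δ n (n + 1) z = 0) : ∃ w : Cochain J J (n - 1), δ (n - 1) n w = z := by
  haveI : Subsingleton (DerivedCategory.Q.obj J ⟶ (DerivedCategory.Q.obj J)⟦n⟧) :=
    @Equiv.subsingleton _ _ (Iso.homCongr e ((CategoryTheory.shiftFunctor (Dual.D A) n).mapIso e)) (hω.ext_self_subsingleton n hn)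
  obtain ⟨H⟩ := KInj.nonempty_homotopy_of_Q_map_eq
    (f := Cocycle.equivHomShift.symm (Cocycle.mk z (n + 1) rfl hz)) (g := 0)
    ((cancel_mono (((DerivedCategory.Q (C := ModuleCat.{u} A)).commShiftIso n).hom.app J)).1
      (@Subsingleton.elim _ this _ _))
  rw [sub_zero] at H
  obtain ⟨w, hw⟩ := (mem_coboundaries_iff (Cocycle.mk z (n + 1) rfl hz) (n - 1) (by lia)).1
    ((CohomologyClass.toHom_mk_eq_zero_iff _).1
      (by rw [CohomologyClass.toHom_mk, HomotopyCategory.eq_of_homotopy _ _ H, Functor.map_zero]))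
  exact ⟨w, hw⟩

theorem quasiIso_cMap [J.IsKInjective] (e : DerivedCategory.Q.obj J ≅ ω) (hω : Dual.IsDualizing A ω) :
    QuasiIso (cMap J) := by
  refine ⟨fun i => ?_⟩
  by_cases hi : i = 0
  · subst hi
    rw [quasiIsoAt_iff_isIso_homologyMap]
    haveI : IsIso ((one A).homologyπ 0) :=
      (one A).isIso_homologyπ (-1) 0 (by simp) ((isZero_single_obj_X _ _ _ _ (by omega)).eq_of_src _ _)
    haveI : IsIso ((one A).iCycles 0) :=
      (one A).isIso_iCycles 0 1 (by simp) ((isZero_single_obj_X _ _ _ _ (by omega)).eq_of_tgt _ _)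
    have hfac : (one A).homologyπ 0 ≫ homologyMap (cMap J) 0 =
        cyclesMap (cMap J) 0 ≫ (DRing.homCx J J).homologyπ 0 := homologyπ_naturality _ _
    suffices IsIso (cyclesMap (cMap J) 0 ≫ (DRing.homCx J J).homologyπ 0) by
      rw [← hfac] at this
      exact IsIso.of_isIso_comp_left ((one A).homologyπ 0) _
    have hi : ∀ x, ((DRing.homCx J J).iCycles 0).hom ((cyclesMap (cMap J) 0).hom x) =
        ((singleObjXSelf (ComplexShape.up ℤ) 0 (ModuleCat.of A A)).hom.hom (((one A).iCycles 0).hom x)) •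
          Cochain.ofHom (𝟙 J) := fun x => by
      have h := congrArg (fun t => t.hom x) (cyclesMap_i (cMap J) 0)
      refine h.trans ?_
      rw [show (cMap J).f 0 = _ from mkHomFromSingle_f _ _]
      rfl
    let θ := asIso ((one A).iCycles 0) ≪≫ singleObjXSelf (ComplexShape.up ℤ) 0 (ModuleCat.of A A)
    refine (ConcreteCategory.isIso_iff_bijective _).2 ⟨(injective_iff_map_eq_zero _).2 fun x hx => ?_, fun y => ?_⟩
    · obtain ⟨w, hw⟩ := (ShortComplex.moduleCat_exact_iff _).1
        (ShortComplex.exact_of_g_is_cokernel (ShortComplex.mk _ _ ((DRing.homCx J J).toCycles_comp_homologyπ (-1) 0))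
          ((DRing.homCx J J).homologyIsCokernel (-1) 0 (by simp))) ((cyclesMap (cMap J) 0).hom x) hx
      have hw' := congrArg (fun t => t.hom w) ((DRing.homCx J J).toCycles_i (-1) 0)
      refine (map_eq_zero_iff θ.hom.hom (ModuleCat.mono_iff_injective θ.hom |>.1 inferInstance)).1 ?_
      refine scalar_eq_zero J e hω _ (show Cochain J J (-1) from w) ?_
      refine (hi x).symm.trans ?_
      rw [← hw]
      exact hw'
    · obtain ⟨c, rfl⟩ := (ModuleCat.epi_iff_surjective ((DRing.homCx J J).homologyπ 0)).1 inferInstance y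
      have hc : δ 0 1 (show Cochain J J 0 from ((DRing.homCx J J).iCycles 0).hom c) = 0 :=
        congrArg (fun t => t.hom c) ((DRing.homCx J J).iCycles_d 0 1)
      obtain ⟨a, w, haw⟩ := exists_scalar J e hω _ hc
      refine ⟨θ.inv.hom a, ?_⟩
      change ((DRing.homCx J J).homologyπ 0).hom ((cyclesMap (cMap J) 0).hom (θ.inv.hom a)) = _
      have key : c = (cyclesMap (cMap J) 0).hom (θ.inv.hom a) +
          ((DRing.homCx J J).toCycles (-1) 0).hom (show (DRing.homCx J J).X (-1) from w) := by
        refine (ModuleCat.mono_iff_injective ((DRing.homCx J J).iCycles 0)).1 inferInstance ?_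
        refine Eq.trans ?_ (map_add _ _ _).symm
        rw [hi]
        refine haw.trans ?_
        congr 1
        · rw [show (singleObjXSelf (ComplexShape.up ℤ) 0 (ModuleCat.of A A)).hom.hom
            (((one A).iCycles 0).hom (θ.inv.hom a)) = a from Iso.inv_hom_id_apply θ a]
        · exact (congrArg (fun t => t.hom (show (DRing.homCx J J).X (-1) from w))
            ((DRing.homCx J J).toCycles_i (-1) 0)).symm
      rw [key, map_add]
      have h0 := congrArg (fun t => t.hom (show (DRing.homCx J J).X (-1) from w))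
        ((DRing.homCx J J).toCycles_comp_homologyπ (-1) 0)
      exact ((congrArg (_ + ·) h0).trans (add_zero _)).symm
  · rw [quasiIsoAt_iff_exactAt]
    · rw [exactAt_iff' _ (i - 1) i (i + 1) (by simp) (by simp), ShortComplex.moduleCat_exact_iff]
      intro (z : Cochain J J i) (hz : δ i (i + 1) z = 0)
      exact exists_cobound J e hω i hi z hz
    · exact exactAt_single_obj _ _ _ _ hi

theorem quasiIso_ev_one [J.IsKInjective] (e : DerivedCategory.Q.obj J ≅ ω) (hω : Dual.IsDualizing A ω) :
    QuasiIso (ev J (one A)) := by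
  haveI : QuasiIso (ev J (one A) ≫ RHomMod.preMap (uMap J) J) := by
    rw [ev_one_comp]; exact quasiIso_cMap J e hω
  haveI := RHomMod.quasiIso_preMap (uMap J) J
  exact quasiIso_of_comp_right _ (RHomMod.preMap (uMap J) J)

end

end Groth.Agent.RingBidual
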