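/- Further consequences of the homology sequence. -/
import Mathlib.Algebra.Homology.HomologySequenceLemmas

set_option autoImplicit false

open CategoryTheory ComposableArrows Abelian HomologicalComplex

namespace Groth.Agent.RingBidual

variable {C ι : Type*} [Category C] [Abelian C] {c : ComplexShape ι}
  {S₁ S₂ : ShortComplex (HomologicalComplex C c)} (φ : S₁ ⟶ S₂)
  (hS₁ : S₁.ShortExact) (hS₂ : S₂.ShortExact)

include hS₁ hS₂

theorem mono_τ₂ (i j : ι) (hij : c.Rel i j) (h₁ : Epi (homologyMap φ.τ₃ i))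
    (h₂ : Mono (homologyMap φ.τ₁ j)) (h₃ : Mono (homologyMap φ.τ₃ j)) : Mono (homologyMap φ.τ₂ j) :=
  mono_of_epi_of_mono_of_mono
    ((δ₀Functor ⋙ δ₀Functor).map (HomologySequence.mapComposableArrows₅ φ hS₁ hS₂ i j hij))
    (HomologySequence.composableArrows₅_exact hS₁ i j hij).δ₀.δ₀
    (HomologySequence.composableArrows₅_exact hS₂ i j hij).δ₀.δ₀ h₁ h₂ h₃

theorem epi_τ₂ (i j : ι) (hij : c.Rel i j) (h₁ : Epi (homologyMap φ.τ₁ i))
    (h₂ : Epi (homologyMap φ.τ₃ i)) (h₃ : Mono (homologyMap φ.τ₁ j)) : Epi (homologyMap φ.τ₂ i) :=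
  epi_of_epi_of_epi_of_mono
    ((δlastFunctor ⋙ δlastFunctor).map (HomologySequence.mapComposableArrows₅ φ hS₁ hS₂ i j hij))
    (HomologySequence.composableArrows₅_exact hS₁ i j hij).δlast.δlast
    (HomologySequence.composableArrows₅_exact hS₂ i j hij).δlast.δlast h₁ h₂ h₃

theorem isIso_τ₁ (i j : ι) (hij : c.Rel i j) (h₁ : Epi (homologyMap φ.τ₂ i))
    (h₂ : IsIso (homologyMap φ.τ₃ i)) (h₃ : IsIso (homologyMap φ.τ₂ j)) (h₄ : Mono (homologyMap φ.τ₃ j)) :
    IsIso (homologyMap φ.τ₁ j) :=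
  isIso_of_epi_of_isIso_of_isIso_of_mono (φ := δ₀Functor.map (HomologySequence.mapComposableArrows₅ φ hS₁ hS₂ i j hij))
    (HomologySequence.composableArrows₅_exact hS₁ i j hij).δ₀
    (HomologySequence.composableArrows₅_exact hS₂ i j hij).δ₀ h₁ h₂ h₃ h₄

end Groth.Agent.RingBidual
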