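/- Biduality for complexes with finite cohomology. -/
import Groth.Agent.RingBidual.Single
import Groth.Agent.RingBidual.Seq
import Groth.Agent.KFlat.RFlat

set_option autoImplicit false
set_option linter.style.haveILetI false
set_option backward.isDefEq.respectTransparency false
set_option backward.isDefEq.respectTransparency.types false
universe u

namespace Groth.Agent.RingBidual

open CategoryTheory Limits CochainComplex HomComplex HomologicalComplex

attribute [local instance] HasDerivedCategory.standard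

noncomputable section

variable {A : Type u} [CommRing A] (J : DRing.Cx A)

/-- evaluation is bijective in degree `i` -/
def GoodAt (K : DRing.Cx A) (i : ℤ) : Prop := IsIso (homologyMap (ev J K) i)

/-- evaluation is a quasi-isomorphism -/
def Good (K : DRing.Cx A) : Prop := ∀ i, GoodAt J K i

/-- a module in one degree -/
abbrev sgl (k : ℤ) (M : ModuleCat.{u} A) : DRing.Cx A :=
  (CochainComplex.singleFunctor (ModuleCat.{u} A) k).obj M

theorem goodAt_of_isZero {K : DRing.Cx A} {i : ℤ} (h₁ : IsZero (K.homology i))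
    (h₂ : IsZero (((DD J).obj K).homology i)) : GoodAt J K i :=
  h₁.isIso h₂ _

/-- modules in one degree preserve exactness -/
theorem shortExact_sgl {S : ShortComplex (ModuleCat.{u} A)} (hS : S.ShortExact) (k : ℤ) :
    (S.map (CochainComplex.singleFunctor (ModuleCat.{u} A) k)).ShortExact := by
  refine HomologicalComplex.shortExact_of_degreewise_shortExact _ fun n => ?_
  by_cases hn : n = k
  · subst hn
    exact ShortComplex.shortExact_of_iso (ShortComplex.isoMk (singleObjXSelf (ComplexShape.up ℤ) n S.X₁).symm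
      (singleObjXSelf (ComplexShape.up ℤ) n S.X₂).symm (singleObjXSelf (ComplexShape.up ℤ) n S.X₃).symm
      ((congrArg (_ ≫ ·) (single_map_f_self (ComplexShape.up ℤ) n S.f)).trans (by simp))
      ((congrArg (_ ≫ ·) (single_map_f_self (ComplexShape.up ℤ) n S.g)).trans (by simp))) hS
  · exact
      { exact := ShortComplex.exact_of_isZero_X₂ _ (isZero_single_obj_X (ComplexShape.up ℤ) k S.X₂ n hn)
        mono_f := ⟨fun _ _ _ => (isZero_single_obj_X (ComplexShape.up ℤ) k S.X₁ n hn).eq_of_tgt _ _⟩
        epi_g := ⟨fun _ _ _ => (isZero_single_obj_X (ComplexShape.up ℤ) k S.X₃ n hn).eq_of_src _ _⟩ }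

variable [J.IsKInjective]

theorem quasiIso_DD_map {K K' : DRing.Cx A} (f : K ⟶ K') [QuasiIso f] : QuasiIso ((DD J).map f) := by
  haveI := RHomMod.quasiIso_preMap f J
  exact RHomMod.quasiIso_preMap (RHomMod.preMap f J) J

theorem goodAt_iff {K K' : DRing.Cx A} (f : K ⟶ K') [QuasiIso f] (i : ℤ) : GoodAt J K i ↔ GoodAt J K' i := by
  haveI := quasiIso_DD_map J f
  have h : homologyMap f i ≫ homologyMap (ev J K') i = homologyMap (ev J K) i ≫ homologyMap ((DD J).map f) i := by
    rw [← homologyMap_comp, ← homologyMap_comp, ev_naturality]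
  constructor <;> intro hg <;> haveI : IsIso _ := hg
  · haveI : IsIso (homologyMap f i ≫ homologyMap (ev J K') i) := by rw [h]; infer_instance
    exact IsIso.of_isIso_comp_left (homologyMap f i) _
  · haveI : IsIso (homologyMap (ev J K) i ≫ homologyMap ((DD J).map f) i) := by rw [← h]; infer_instance
    exact IsIso.of_isIso_comp_right _ (homologyMap ((DD J).map f) i)

section Bounds

variable (a b : ℤ) [J.IsStrictlyGE a] [J.IsStrictlyLE b]

omit [J.IsKInjective] in
theorem isStrictlyLE_hom (K : DRing.Cx A) (m : ℤ) [K.IsStrictlyGE m] :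
    CochainComplex.IsStrictlyLE (DRing.homCx K J) (b - m) := by
  refine (CochainComplex.isStrictlyLE_iff _ _).2 fun i hi => ?_
  haveI : Subsingleton (Cochain K J i) := ⟨fun z z' => Cochain.ext _ _ fun p q hpq => by
    by_cases hp : p < m
    · exact (K.isZero_of_isStrictlyGE m p hp).eq_of_src _ _
    · exact (J.isZero_of_isStrictlyLE b q (by omega)).eq_of_tgt _ _⟩
  exact ModuleCat.isZero_of_subsingleton (ModuleCat.of A (Cochain K J i))

omit [J.IsKInjective] in
theorem isStrictlyGE_hom (K : DRing.Cx A) (m : ℤ) [K.IsStrictlyLE m] :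
    CochainComplex.IsStrictlyGE (DRing.homCx K J) (a - m) := by
  refine (CochainComplex.isStrictlyGE_iff _ _).2 fun i hi => ?_
  haveI : Subsingleton (Cochain K J i) := ⟨fun z z' => Cochain.ext _ _ fun p q hpq => by
    by_cases hp : m < p
    · exact (K.isZero_of_isStrictlyLE m p hp).eq_of_src _ _
    · exact (J.isZero_of_isStrictlyGE a q (by omega)).eq_of_tgt _ _⟩
  exact ModuleCat.isZero_of_subsingleton (ModuleCat.of A (Cochain K J i))

include a b

theorem goodAt_of_isGE {K : DRing.Cx A} (m : ℤ) [K.IsGE m] (i : ℤ) (hi : i < m) (hi' : i < a - b + m) :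
    GoodAt J K i := by
  refine goodAt_of_isZero J (K.isZero_of_isGE m i hi) ?_
  haveI := quasiIso_DD_map J (K.πTruncGE m)
  haveI := isStrictlyLE_hom J b (K.truncGE m) m
  haveI := isStrictlyGE_hom J a (DRing.homCx (K.truncGE m) J) (b - m)
  exact (ShortComplex.isZero_homology_of_isZero_X₂ _
    ((DRing.homCx (DRing.homCx (K.truncGE m) J) J).isZero_of_isStrictlyGE (a - (b - m)) i (by omega))).of_iso
      (isoOfQuasiIsoAt ((DD J).map (K.πTruncGE m)) i)

theorem goodAt_of_isLE {K : DRing.Cx A} (m : ℤ) [K.IsLE m] (i : ℤ) (hi : m < i) (hi' : b - a + m < i) :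
    GoodAt J K i := by
  refine goodAt_of_isZero J (K.isZero_of_isLE m i hi) ?_
  haveI := quasiIso_DD_map J (K.ιTruncLE m)
  haveI := isStrictlyGE_hom J a (K.truncLE m) m
  haveI := isStrictlyLE_hom J b (DRing.homCx (K.truncLE m) J) (a - m)
  exact (ShortComplex.isZero_homology_of_isZero_X₂ _
    ((DRing.homCx (DRing.homCx (K.truncLE m) J) J).isZero_of_isStrictlyLE (b - (a - m)) i (by omega))).of_iso
      (isoOfQuasiIsoAt ((DD J).map (K.ιTruncLE m)) i).symm

theorem good_of_acyclic {K : DRing.Cx A} (h : K.Acyclic) : Good J K := fun i => by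
  haveI : K.IsGE (i + 1 + (b - a).natAbs) := (CochainComplex.isGE_iff _ _).2 fun j _ => h j
  exact goodAt_of_isGE J a b (i + 1 + (b - a).natAbs) i (by omega) (by omega)

end Bounds

variable (hJ : ∀ n, Injective (J.X n))
include hJ

omit [J.IsKInjective] in
/-- evaluation on a short exact sequence -/
theorem exists_evSeq {S : ShortComplex (DRing.Cx A)} (hS : S.ShortExact) :
    ∃ (S' : ShortComplex (DRing.Cx A)) (_ : S'.ShortExact) (φ : S ⟶ S'),
      (∀ i, GoodAt J S.X₁ i ↔ IsIso (homologyMap φ.τ₁ i)) ∧ (∀ i, GoodAt J S.X₂ i ↔ IsIso (homologyMap φ.τ₂ i)) ∧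
        (∀ i, GoodAt J S.X₃ i ↔ IsIso (homologyMap φ.τ₃ i)) := by
  obtain ⟨w, hw⟩ := shortExact_DD J hJ hS
  exact ⟨_, hw, ShortComplex.homMk (ev J S.X₁) (ev J S.X₂) (ev J S.X₃) (ev_naturality J S.f).symm
    (ev_naturality J S.g).symm, fun _ => Iff.rfl, fun _ => Iff.rfl, fun _ => Iff.rfl⟩

omit [J.IsKInjective] in
theorem good_X₃ {S : ShortComplex (DRing.Cx A)} (hS : S.ShortExact) (h₁ : Good J S.X₁) (h₂ : Good J S.X₂) :
    Good J S.X₃ := fun i => by
  obtain ⟨S', hS', φ, e₁, e₂, e₃⟩ := exists_evSeq J hJ hS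
  have h₁' := fun j => (e₁ j).1 (h₁ j)
  have h₂' := fun j => (e₂ j).1 (h₂ j)
  exact (e₃ i).2 (HomologicalComplex.HomologySequence.isIso_homologyMap_τ₃ φ hS hS' i
    (haveI := h₁' i; inferInstance) (h₂' i) (fun j _ => h₁' j) fun j _ => (haveI := h₂' j; inferInstance))

omit [J.IsKInjective] in
theorem good_X₁ {S : ShortComplex (DRing.Cx A)} (hS : S.ShortExact) (h₂ : Good J S.X₂) (h₃ : Good J S.X₃) :
    Good J S.X₁ := fun j => by
  obtain ⟨S', hS', φ, e₁, e₂, e₃⟩ := exists_evSeq J hJ hS
  have h₂' := fun j => (e₂ j).1 (h₂ j)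
  have h₃' := fun j => (e₃ j).1 (h₃ j)
  exact (e₁ j).2 (isIso_τ₁ φ hS hS' (j - 1) j (by simp) (haveI := h₂' (j - 1); inferInstance) (h₃' _) (h₂' j)
    (haveI := h₃' j; inferInstance))

omit [J.IsKInjective] in
theorem goodAt_X₂ {S : ShortComplex (DRing.Cx A)} (hS : S.ShortExact) (i : ℤ) (h₁ : GoodAt J S.X₁ i)
    (h₁' : GoodAt J S.X₁ (i + 1)) (h₃ : GoodAt J S.X₃ (i - 1)) (h₃' : GoodAt J S.X₃ i) : GoodAt J S.X₂ i := by
  obtain ⟨S', hS', φ, e₁, e₂, e₃⟩ := exists_evSeq J hJ hS
  haveI := (e₁ i).1 h₁
  haveI := (e₁ (i + 1)).1 h₁'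
  haveI := (e₃ (i - 1)).1 h₃
  haveI := (e₃ i).1 h₃'
  haveI := mono_τ₂ φ hS hS' (i - 1) i (by simp) inferInstance inferInstance inferInstance
  haveI := epi_τ₂ φ hS hS' i (i + 1) (by simp) inferInstance inferInstance inferInstance
  exact (e₂ i).2 (isIso_of_mono_of_epi _)

omit [J.IsKInjective] in
theorem good_X₂ {S : ShortComplex (DRing.Cx A)} (hS : S.ShortExact) (h₁ : Good J S.X₁) (h₃ : Good J S.X₃) :
    Good J S.X₂ := fun i => goodAt_X₂ J hJ hS i (h₁ _) (h₁ _) (h₃ _) (h₃ _)

variable (a b : ℤ) [J.IsStrictlyGE a] [J.IsStrictlyLE b] {ω : Dual.D A} (e : DerivedCategory.Q.obj J ≅ ω)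
  (hω : Dual.IsDualizing A ω)

omit hJ in
theorem good_iso {K K' : DRing.Cx A} (i : K ≅ K') (h : Good J K) : Good J K' := fun j => (goodAt_iff J i.hom j).1 (h j)

include a b e hω

theorem good_sgl_self (k : ℤ) : Good J (sgl k (ModuleCat.of A A)) := by
  have h0 : Good J (sgl 0 (ModuleCat.of A A)) := fun i => by
    haveI := quasiIso_ev_one J e hω
    exact (inferInstance : IsIso (homologyMap (ev J (one A)) i))
  have step : ∀ k : ℤ, (Good J (sgl (k + 1) (ModuleCat.of A A)) → Good J (sgl k (ModuleCat.of A A))) ∧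
      (Good J (sgl k (ModuleCat.of A A)) → Good J (sgl (k + 1) (ModuleCat.of A A))) := fun k => by
    let S := sgl (k + 1) (ModuleCat.of A A)
    have hS := HomologicalComplex.shortExact_of_degreewise_shortExact _ fun n =>
      (KFlat.coneSplitting (𝟙 S) n).shortExact
    have h₂ : Good J (KFlat.coneSC (𝟙 S)).X₂ := good_of_acyclic J a b
      (KFlat.mappingCone_acyclic (𝟙 S))
    let i₀ : (KFlat.coneSC (𝟙 S)).X₃ ≅ sgl k (ModuleCat.of A A) :=
      ((CochainComplex.singleFunctors (ModuleCat.{u} A)).shiftIso 1 k (k + 1) (add_comm 1 k)).app _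
    exact ⟨fun h => good_iso J i₀ (good_X₃ J hJ hS h h₂),
      fun h => good_X₁ J hJ hS h₂ (good_iso J i₀.symm h)⟩
  induction k using Int.induction_on with
  | zero => exact h0
  | succ n ih => exact (step n).2 ih
  | pred n ih =>
    have := (step (-(n : ℤ) - 1)).1
    rw [show -(n : ℤ) - 1 + 1 = -n by ring] at this
    exact this ih

theorem good_sgl_free (k : ℤ) : ∀ r : ℕ, Good J (sgl k (ModuleCat.of A (Fin r → A))) := fun r => by
  induction r with
  | zero =>
    refine good_of_acyclic J a b fun i => ?_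
    haveI : Subsingleton (ModuleCat.of A (Fin 0 → A)) := inferInstanceAs (Subsingleton (Fin 0 → A))
    exact (exactAt_iff_isZero_homology _ _).2 (ShortComplex.isZero_homology_of_isZero_X₂ _
      ((HomologicalComplex.eval _ _ i).map_isZero
        ((CochainComplex.singleFunctor _ k).map_isZero (ModuleCat.isZero_of_subsingleton _))))
  | succ r ih =>
    let e' : (A × (Fin r → A)) ≃ₗ[A] (Fin (r + 1) → A) := Fin.consLinearEquiv A (fun _ : Fin (r + 1) => A)
    let f : ModuleCat.of A A ⟶ ModuleCat.of A (Fin (r + 1) → A) :=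
      ModuleCat.ofHom (e'.toLinearMap.comp (LinearMap.inl A A (Fin r → A)))
    let g : ModuleCat.of A (Fin (r + 1) → A) ⟶ ModuleCat.of A (Fin r → A) :=
      ModuleCat.ofHom ((LinearMap.snd A A (Fin r → A)).comp e'.symm.toLinearMap)
    let S : ShortComplex (ModuleCat.{u} A) := ShortComplex.mk f g
      (ModuleCat.hom_ext (LinearMap.ext fun c => by simp [f, g]))
    have hS : S.ShortExact :=
      { exact := (ShortComplex.moduleCat_exact_iff _).2 fun y hy => by
          obtain ⟨⟨c, v⟩, rfl⟩ := e'.surjective y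
          have hv : v = 0 := by simpa [S, g] using hy
          exact ⟨c, by simp [S, f, hv]⟩
        mono_f := (ModuleCat.mono_iff_injective _).2 (e'.injective.comp LinearMap.inl_injective)
        epi_g := (ModuleCat.epi_iff_surjective _).2
          ((LinearMap.snd_surjective (R := A) (M := A) (M₂ := Fin r → A)).comp e'.symm.surjective) }
    exact good_X₂ J hJ (shortExact_sgl hS k)
      (good_sgl_self J hJ a b e hω k) ih

theorem good_sgl (k : ℤ) (M : ModuleCat.{u} A) [Module.Finite A M] : Good J (sgl k M) := by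
  haveI := hω.isNoetherianRing
  suffices H : ∀ (n : ℕ) (M : ModuleCat.{u} A) [Module.Finite A M] (i : ℤ), b - a + k < i + n → k < i + n →
      GoodAt J (sgl k M) i from fun i => H ((b - a).natAbs + (k - i).natAbs + 1) M i (by omega) (by omega)
  intro n
  induction n with
  | zero =>
    intro M _ i h h'
    exact goodAt_of_isLE J a b k i (by omega) (by omega)
  | succ n ih =>
    have hE : ∀ (M : ModuleCat.{u} A) [Module.Finite A M] (i : ℤ), b - a + k < i + (n + 1) → k < i + (n + 1) →
        ∀ (hK : ∀ (K : ModuleCat.{u} A) [Module.Finite A K], Mono (homologyMap (ev J (sgl k K)) (i + 1)) ∧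
          Epi (homologyMap (ev J (sgl k K)) (i + 1))),
        Epi (homologyMap (ev J (sgl k M)) i) ∧ ((∀ (K : ModuleCat.{u} A) [Module.Finite A K],
          Epi (homologyMap (ev J (sgl k K)) i)) → Mono (homologyMap (ev J (sgl k M)) i)) := by
      intro M _ i _ _ hK
      obtain ⟨r, π, hπ⟩ := Module.Finite.exists_fin' A M
      haveI : IsNoetherian A (Fin r → A) := inferInstance
      let S : ShortComplex (ModuleCat.{u} A) :=
        ShortComplex.mk (ModuleCat.ofHom (LinearMap.ker π).subtype) (ModuleCat.ofHom π)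
          (ModuleCat.hom_ext (LinearMap.ext fun x => x.2))
      have hS : S.ShortExact :=
        { exact := (ShortComplex.moduleCat_exact_iff _).2 fun y hy => ⟨⟨y, hy⟩, rfl⟩
          mono_f := (ModuleCat.mono_iff_injective _).2 Subtype.val_injective
          epi_g := (ModuleCat.epi_iff_surjective _).2 hπ }
      have hS₁ := shortExact_sgl hS k
      obtain ⟨w, hS₂⟩ := shortExact_DD J hJ hS₁
      let φ : S.map (CochainComplex.singleFunctor (ModuleCat.{u} A) k) ⟶ ShortComplex.mk _ _ w :=
        ShortComplex.homMk (ev J _) (ev J _) (ev J _) (ev_naturality J _).symm (ev_naturality J _).symm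
      haveI : Module.Finite A (LinearMap.ker π) := inferInstance
      haveI hF : ∀ j, IsIso (homologyMap φ.τ₂ j) := fun j => good_sgl_free J hJ a b e hω k r j
      constructor
      · exact HomologicalComplex.HomologySequence.epi_homologyMap_τ₃ φ hS₁ hS₂ i inferInstance
          (fun j hj => by obtain rfl : i + 1 = j := hj; exact (hK (ModuleCat.of A (LinearMap.ker π))).2)
          fun j _ => inferInstance
      · intro hE'
        exact HomologicalComplex.HomologySequence.mono_homologyMap_τ₃ φ hS₁ hS₂ i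
          (hE' (ModuleCat.of A (LinearMap.ker π))) inferInstance
          (fun j hj => by obtain rfl : i + 1 = j := hj; exact (hK (ModuleCat.of A (LinearMap.ker π))).1)
    intro M _ i h h'
    have hK : ∀ (K : ModuleCat.{u} A) [Module.Finite A K], Mono (homologyMap (ev J (sgl k K)) (i + 1)) ∧
        Epi (homologyMap (ev J (sgl k K)) (i + 1)) := fun K _ => by
      haveI : IsIso (homologyMap (ev J (sgl k K)) (i + 1)) := ih K (i + 1) (by omega) (by omega)
      exact ⟨inferInstance, inferInstance⟩
    haveI := (hE M i (by omega) (by omega) hK).1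
    haveI := (hE M i (by omega) (by omega) hK).2 fun K _ => (hE K i (by omega) (by omega) hK).1
    exact isIso_of_mono_of_epi _

theorem good_bounded (n : ℕ) : ∀ (K : DRing.Cx A) (p : ℤ) [K.IsGE p] [K.IsLE (p + n - 1)],
    (∀ i, Module.Finite A (K.homology i)) → Good J K := by
  induction n with
  | zero =>
    intro K p _ _ _
    refine good_of_acyclic J a b fun i => (exactAt_iff_isZero_homology _ _).2 ?_
    by_cases hi : i < p
    · exact K.isZero_of_isGE p i hi
    · exact K.isZero_of_isLE (p + ((0 : ℕ) : ℤ) - 1) i (by omega)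
  | succ n ih =>
    intro K p hp hq hK
    let S := K.shortComplexTruncLE p
    have hS : S.ShortExact := K.shortComplexTruncLE_shortExact p
    have hT : ∀ i, i ≤ p → Nonempty ((K.truncLE p).homology i ≅ K.homology i) := fun i hi => by
      haveI : QuasiIsoAt (K.ιTruncLE p) i := K.quasiIsoAt_ιTruncLE p i hi
      exact ⟨isoOfQuasiIsoAt (K.ιTruncLE p) i⟩
    have hG : ∀ i, p + 1 ≤ i → Nonempty (K.homology i ≅ (K.truncGE (p + 1)).homology i) := fun i hi => by
      haveI : QuasiIsoAt (K.πTruncGE (p + 1)) i := K.quasiIsoAt_πTruncGE (p + 1) i hi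
      exact ⟨isoOfQuasiIsoAt (K.πTruncGE (p + 1)) i⟩
    refine good_X₂ J hJ hS ?_ ?_
    · let T := K.truncLE p
      haveI : T.IsGE p := (CochainComplex.isGE_iff _ _).2 fun i hi => (exactAt_iff_isZero_homology _ _).2
        ((K.isZero_of_isGE p i hi).of_iso (hT i hi.le).some)
      obtain ⟨M, ⟨e₁⟩⟩ := CochainComplex.exists_iso_single (T.truncGE p) p
      haveI : Module.Finite A M := by
        haveI := hK p
        haveI : QuasiIsoAt (T.πTruncGE p) p := inferInstance
        exact Module.Finite.equiv ((hT p le_rfl).some.symm ≪≫ isoOfQuasiIsoAt (T.πTruncGE p) p ≪≫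
          (HomologicalComplex.homologyFunctor _ _ p).mapIso e₁ ≪≫
          singleObjHomologySelfIso (ComplexShape.up ℤ) p M).toLinearEquiv
      intro i
      exact (goodAt_iff J (T.πTruncGE p) i).2 ((goodAt_iff J e₁.hom i).2 (good_sgl J hJ a b e hω p M i))
    · haveI : (K.truncGE (p + 1)).IsLE (p + 1 + n - 1) := (CochainComplex.isLE_iff _ _).2 fun i hi =>
        (exactAt_iff_isZero_homology _ _).2
          ((K.isZero_of_isLE (p + ((n + 1 : ℕ) : ℤ) - 1) i (by omega)).of_iso (hG i (by omega)).some.symm)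
      have hfin : ∀ i, Module.Finite A ((K.truncGE (p + 1)).homology i) := fun i => by
        by_cases hi : p + 1 ≤ i
        · haveI := hK i
          exact Module.Finite.equiv (hG i hi).some.toLinearEquiv
        · haveI : Subsingleton ((K.truncGE (p + 1)).homology i) :=
            ModuleCat.subsingleton_of_isZero ((K.truncGE (p + 1)).isZero_of_isGE (p + 1) i (by omega))
          infer_instance
      exact fun i => (goodAt_iff J (K.shortComplexTruncLEX₃ToTruncGE p (p + 1)) i).2 (ih _ (p + 1) hfin i)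

/-- **biduality** -/
theorem good_of_finite (K : DRing.Cx A) (hK : ∀ i, Module.Finite A (K.homology i)) : Good J K := fun i => by
  let c : ℕ := (b - a).natAbs
  let N : ℤ := i + 1 + c
  let M : ℤ := i - 2 - c
  let T := K.truncLE N
  have hS := K.shortComplexTruncLE_shortExact N
  have hX : ∀ j, j ≤ i → GoodAt J (K.shortComplexTruncLE N).X₃ j := fun j hj =>
    (goodAt_iff J (K.shortComplexTruncLEX₃ToTruncGE N (N + 1)) j).2
      (goodAt_of_isGE J a b (N + 1) j (by omega) (by omega))
  suffices hT : ∀ j, (j = i ∨ j = i + 1) → GoodAt J T j from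
    goodAt_X₂ J hJ hS i (hT i (Or.inl rfl)) (hT (i + 1) (Or.inr rfl)) (hX _ (by omega)) (hX _ le_rfl)
  intro j hj
  have hS' := T.shortComplexTruncLE_shortExact M
  have hB : Good J (T.shortComplexTruncLE M).X₃ := fun l => by
    refine (goodAt_iff J (T.shortComplexTruncLEX₃ToTruncGE M (M + 1)) l).2 ?_
    haveI : (T.truncGE (M + 1)).IsLE (M + 1 + (N - M).toNat - 1) := (CochainComplex.isLE_iff _ _).2 fun r hr =>
      (exactAt_iff_isZero_homology _ _).2 (by
        haveI : QuasiIsoAt (T.πTruncGE (M + 1)) r := T.quasiIsoAt_πTruncGE (M + 1) r (by omega)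
        exact (T.isZero_of_isLE N r (by omega)).of_iso (isoOfQuasiIsoAt (T.πTruncGE (M + 1)) r).symm)
    refine good_bounded J hJ a b e hω (N - M).toNat (T.truncGE (M + 1)) (M + 1) (fun r => ?_) l
    by_cases hr : M + 1 ≤ r
    · haveI : QuasiIsoAt (T.πTruncGE (M + 1)) r := T.quasiIsoAt_πTruncGE (M + 1) r hr
      by_cases hr' : r ≤ N
      · haveI : QuasiIsoAt (K.ιTruncLE N) r := K.quasiIsoAt_ιTruncLE N r hr'
        haveI := hK r
        exact Module.Finite.equiv ((isoOfQuasiIsoAt (K.ιTruncLE N) r).symm ≪≫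
          isoOfQuasiIsoAt (T.πTruncGE (M + 1)) r).toLinearEquiv
      · haveI : Subsingleton ((T.truncGE (M + 1)).homology r) := ModuleCat.subsingleton_of_isZero
          ((T.isZero_of_isLE N r (by omega)).of_iso (isoOfQuasiIsoAt (T.πTruncGE (M + 1)) r).symm)
        infer_instance
    · haveI : Subsingleton ((T.truncGE (M + 1)).homology r) :=
        ModuleCat.subsingleton_of_isZero ((T.truncGE (M + 1)).isZero_of_isGE (M + 1) r (by omega))
      infer_instance
  haveI : CochainComplex.IsLE (T.shortComplexTruncLE M).X₁ M := inferInstanceAs ((T.truncLE M).IsLE M)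
  exact goodAt_X₂ J hJ hS' j (goodAt_of_isLE J a b M j (by omega) (by omega))
    (goodAt_of_isLE J a b M (j + 1) (by omega) (by omega)) (hB _) (hB _)

end

end Groth.Agent.RingBidual
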