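/- Biduality in the derived category. -/
import Groth.Agent.RingBidual.Main
import Groth.Agent.DualCx.RHomFinite
import Groth.Agent.PerfLocal.Perfect

set_option autoImplicit false
set_option linter.style.haveILetI false
set_option backward.isDefEq.respectTransparency false
set_option backward.isDefEq.respectTransparency.types false
universe u

namespace Groth.Agent.RingBidual

open CategoryTheory Limits CochainComplex HomComplex HomologicalComplex

attribute [local instance] HasDerivedCategory.standard

noncomputable section

variable {A : Type u} [CommRing A] (K : DRing.Cx A) {ω : Dual.D A} (R : DualCx.Rep ω) (hω : Dual.IsDualizing A ω)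
  (hK : ∀ i : ℤ, Module.Finite A (Dual.HD A (DRing.toD K) i))

/-- cohomology of `Hom(K, J)` is finite when the morphisms to shifts are -/
theorem finite_homCx_homology [IsNoetherianRing A] (K J : DRing.Cx A) [J.IsKInjective]
    (e : DerivedCategory.Q.obj J ≅ ω) (i : ℤ) [Module.Finite A (DRing.toD K ⟶ ω⟦i⟧)] :
    Module.Finite A ((DRing.homCx K J).homology i) := by
  let H := DRing.homCx K J
  have hz : ∀ x : H.cycles i, δ i (i + 1) (show Cochain K J i from (H.iCycles i).hom x) = 0 := fun x =>
    congrArg (fun t => t.hom x) (H.iCycles_d i (i + 1))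
  let cy : H.cycles i → Cocycle K J i := fun x => Cocycle.mk _ (i + 1) rfl (hz x)
  let ψ : H.cycles i →ₗ[A] (K ⟶ J⟦i⟧) :=
    { toFun := fun x => Cocycle.equivHomShift.symm (cy x)
      map_add' := fun x y => by
        rw [← map_add]
        exact congrArg _ (Subtype.ext (map_add _ _ _))
      map_smul' := fun r x => by
        refine HomologicalComplex.hom_ext _ _ fun p => ?_
        simp [cy, Cocycle.equivHomShift_symm_apply, Cocycle.rightShift_coe]
        have h := Cochain.rightShift_smul (show Cochain K J i from (H.iCycles i).hom x) i 0 (zero_add i) r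
        exact (congrArg (fun c => Cochain.v c p p (add_zero p)) h).trans (Cochain.smul_v r _ p p (add_zero p)) }
  let θ : H.cycles i →ₗ[A] (DRing.toD K ⟶ ω⟦i⟧) :=
    { toFun := fun x => DerivedCategory.Q.map (ψ x) ≫
        ((DerivedCategory.Q.commShiftIso i).hom.app J ≫ (CategoryTheory.shiftFunctor (Dual.D A) i).map e.hom)
      map_add' := fun x y => by rw [map_add, Functor.map_add, Preadditive.add_comp]
      map_smul' := fun r x => by rw [map_smul, Functor.map_smul, Linear.smul_comp, RingHom.id_apply] }
  haveI : IsNoetherian A (DRing.toD K ⟶ ω⟦i⟧) := isNoetherian_of_isNoetherianRing_of_finite A _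
  have hker : LinearMap.ker θ ≤ LinearMap.ker (H.homologyπ i).hom := fun x hx => by
    have h : DerivedCategory.Q.map (ψ x) = DerivedCategory.Q.map 0 := by
      rw [Functor.map_zero]
      haveI : IsIso ((DerivedCategory.Q.commShiftIso i).hom.app J ≫
          (CategoryTheory.shiftFunctor (Dual.D A) i).map e.hom) := inferInstance
      exact (cancel_mono _).1 (hx.trans zero_comp.symm)
    obtain ⟨Hh⟩ := KInj.nonempty_homotopy_of_Q_map_eq h
    rw [sub_zero] at Hh
    obtain ⟨w, hw⟩ := (mem_coboundaries_iff (cy x) (i - 1) (by lia)).1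
      ((CohomologyClass.toHom_mk_eq_zero_iff _).1
        (by rw [CohomologyClass.toHom_mk]; exact (HomotopyCategory.eq_of_homotopy _ _ Hh).trans (Functor.map_zero _ _ _)))
    have hx' : x = (H.toCycles (i - 1) i).hom (show H.X (i - 1) from w) := by
      refine (ModuleCat.mono_iff_injective (H.iCycles i)).1 inferInstance ?_
      exact hw.symm.trans (congrArg (fun t => t.hom (show H.X (i - 1) from w)) (H.toCycles_i (i - 1) i)).symm
    rw [hx']
    exact congrArg (fun t => t.hom (show H.X (i - 1) from w)) (H.toCycles_comp_homologyπ (i - 1) i)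
  haveI : Module.Finite A (H.cycles i ⧸ LinearMap.ker θ) := Module.Finite.equiv θ.quotKerEquivRange.symm
  exact Module.Finite.of_surjective ((LinearMap.ker θ).liftQ (H.homologyπ i).hom hker) fun y => by
    obtain ⟨x, rfl⟩ := (ModuleCat.epi_iff_surjective (H.homologyπ i)).1 inferInstance y
    exact ⟨Submodule.Quotient.mk x, rfl⟩

include hK in
theorem finite_homology (i : ℤ) : Module.Finite A (K.homology i) :=
  @Module.Finite.equiv A _ _ _ _ _ _ _ (hK i)
    ((DerivedCategory.homologyFunctorFactors (ModuleCat.{u} A) i).app K).toLinearEquiv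

include hω hK in
/-- the double dual computed from any representative of the dual -/
theorem nonempty_iso_DD (P : DRing.Cx A) [P.IsKProjective]
    (e : DerivedCategory.Q.obj P ≅ DerivedCategory.Q.obj (DRing.homCx K R.J)) :
    Nonempty (DerivedCategory.Q.obj (DRing.homCx P R.J) ≅ DRing.toD K) := by
  haveI := R.isKInjective
  haveI : R.J.IsStrictlyGE R.a :=
    (CochainComplex.isStrictlyGE_iff _ _).2 fun j hj => R.zero j (Or.inl hj)
  haveI : R.J.IsStrictlyLE R.b :=
    (CochainComplex.isStrictlyLE_iff _ _).2 fun j hj => R.zero j (Or.inr hj)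
  obtain ⟨g, hg⟩ := PerfLocal.exists_lift (R := A) e.hom
  haveI : IsIso (DerivedCategory.Q.map g) := by rw [hg]; infer_instance
  haveI : QuasiIso g := (DerivedCategory.isIso_Q_map_iff_quasiIso _ g).1 inferInstance
  haveI := RHomMod.quasiIso_preMap g R.J
  haveI : QuasiIso (ev R.J K) := ⟨fun i => by
    rw [quasiIsoAt_iff_isIso_homologyMap]
    exact good_of_finite R.J R.inj R.a R.b R.iso hω K (finite_homology K hK) i⟩
  exact ⟨(asIso (DerivedCategory.Q.map (ev R.J K ≫ RHomMod.preMap g R.J))).symm⟩

include hω hK in
/-- duals of complexes with finite cohomology have finite cohomology -/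
theorem finite_hd (X : Dual.D A) (e : X ≅ DerivedCategory.Q.obj (DRing.homCx K R.J)) (i : ℤ) :
    Module.Finite A (Dual.HD A X i) := by
  haveI := hω.isNoetherianRing
  haveI := R.isKInjective
  obtain ⟨a, b, hab⟩ := hω.finite_injective_dimension
  have hamp : DRing.HasInjAmplitudeIn A a b ω :=
    (DRingKP.injAmp_iff ω a b).2 fun I i hi => hab (A ⧸ I) i hi
  haveI := DualCx.finite_hom_of_injAmp hK hω.finite_cohomology hamp i
  exact @Module.Finite.equiv A _ _ _ _ _ _ _ (finite_homCx_homology K R.J R.iso i) (((DerivedCategory.homologyFunctor _ i).mapIso e ≪≫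
    (DerivedCategory.homologyFunctorFactors (ModuleCat.{u} A) i).app _).symm).toLinearEquiv

end

end Groth.Agent.RingBidual
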